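/-
Peterfalvi part II: identification of `PSU₃(q)`.
-/
import Cfsg.Agent.BS.PZ
import Cfsg.Agent.BS.PUb
import Cfsg.Agent.BS.PUd
import Cfsg.Prelude.Def_Classical

set_option autoImplicit false
set_option linter.style.haveILetI false

namespace Cfsg.Agent.BS

open MulAction Subgroup H15.RO H12

namespace U1

variable {G Ω : Type*} [Group G] [MulAction G Ω] {a : Ω} {t : G} {Q : Subgroup G}
  {F : Type} [Field F] {τ : F → G} {κ : Fˣ →* G} [Finite G] (h : U1 a t Q τ κ)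
include h

theorem iso : Nat.card Q = Nat.card F ^ 3 ∧
    ∃ (E : Type) (_ : Field E) (_ : Fintype E), Fintype.card E = Nat.card F ^ 2 ∧
      Nonempty (L0 t ≃* Cfsg.PSU 3 E (Nat.card F)) := by
  obtain ⟨ξ₀, hξ₀, hξ₁⟩ := h.ne
  have hb := (h.O1_iff hξ₀).2 hξ₁
  set b := ξ₀ • t • a
  obtain ⟨c1, surj⟩ := h.co_surj' hb
  refine ⟨c1, ?_⟩
  obtain ⟨Φ, hΦ⟩ := h.exists_Phi (b := b)
  obtain ⟨α, β, hN⟩ := h.Phi_form hb hΦ
  haveI := h.finF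
  obtain ⟨E, _, _, hE, ι, j, jb, jadd, jsmul, jdt, jN, σι, σfix⟩ := exists_ext h.two0 (α := α) (β := β)
    fun e he e0 => by simpa [e0] using hN e he
  refine ⟨E, inferInstance, inferInstance, hE, ?_⟩
  set σ := frobq hE with hσ
  have σσ : ∀ x, σ (σ x) = x := frobq_frobq hE
  have two : (2 : E) = 0 := by rw [← map_ofNat ι 2, h.two0, map_zero]
  have j0 : ∀ e, e ≠ 0 → j e ≠ 0 := fun e he e0 => he (jb.1 (by
    rw [e0, ← zero_smul F (0 : F × F), jsmul, map_zero, zero_mul]))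
  have c0 : ∀ {ξ e' e}, Co a t Q τ κ b ξ e' e → j e' ≠ 0 ∧ j e ≠ 0 := fun hc =>
    ⟨j0 _ (ne_zero_of_dt (by rw [dt_comm, hc.2.1]; exact one_ne_zero)),
      j0 _ (ne_zero_of_dt (by rw [hc.2.1]; exact one_ne_zero))⟩
  have jΦ : ∀ {ξ e' e}, Co a t Q τ κ b ξ e' e → j (Φ e • e) = σ (j e)⁻¹ := fun {ξ e' e} hc => by
    have := congrArg ι (hN e (ne_zero_of_dt (by rw [hc.2.1]; exact one_ne_zero)))
    rw [map_mul, ← jN, map_one] at this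
    rw [jsmul, map_inv₀]
    exact eq_inv_of_mul_eq_one_left (by linear_combination this)
  have ex : ∀ ξ : G, ∃ x y : E, (∀ z, ξ = τ z → x = 0 ∧ y = ι z) ∧
      ∀ e' e, Co a t Q τ κ b ξ e' e → x = (j e)⁻¹ ∧ y = j e' * (j e)⁻¹ := by
    intro ξ
    by_cases h1 : ∃ z, ξ = τ z
    · obtain ⟨z, rfl⟩ := h1
      exact ⟨0, ι z, fun w e => ⟨rfl, by rw [h.inj e]⟩, fun e' e hc =>
        absurd (h.tau_sq z) (h.co_sq hb hc)⟩
    by_cases h2 : ∃ e' e, Co a t Q τ κ b ξ e' e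
    · obtain ⟨e', e, hc⟩ := h2
      refine ⟨(j e)⁻¹, j e' * (j e)⁻¹, fun z e => absurd ⟨z, e⟩ h1, fun f' f hc' => ?_⟩
      obtain ⟨rfl, rfl⟩ := h.co_right hb hc hc'
      exact ⟨rfl, rfl⟩
    · exact ⟨0, 0, fun z e => absurd ⟨z, e⟩ h1, fun e' e hc => absurd ⟨e', e, hc⟩ h2⟩
  choose X Y X0' XC using ex
  have X0 : ∀ z, X (τ z) = 0 ∧ Y (τ z) = ι z := fun z => X0' _ z rfl
  have cs : ∀ ξ ∈ Q, (∃ z, ξ = τ z) ∨ ∃ e' e, Co a t Q τ κ b ξ e' e := fun ξ hξ => by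
    by_cases h1 : ξ * ξ = 1
    · obtain ⟨z, hz⟩ := (h.mem ξ).1 ⟨hξ, h1⟩
      exact Or.inl ⟨z, hz.symm⟩
    · exact Or.inr (surj ξ hξ h1)
  have P0 : ∀ z, ∀ η ∈ Q, X (τ z * η) = X η ∧ Y (τ z * η) = ι z + Y η := by
    intro z η hη
    rcases cs η hη with ⟨w, rfl⟩ | ⟨e', e, hc⟩
    · rw [← h.add, (X0 _).1, (X0 _).1, (X0 _).2, (X0 _).2, map_add]; exact ⟨rfl, rfl⟩
    · obtain ⟨e1, e2⟩ := XC _ _ _ (h.co_tau hc z)
      obtain ⟨e3, e4⟩ := XC _ _ _ hc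
      rw [e1, e2, e3, e4, jadd, jsmul, add_mul, mul_inv_cancel_right₀ (c0 hc).2, add_comm]
      exact ⟨rfl, rfl⟩
  have Pinv : ∀ ξ ∈ Q, X ξ⁻¹ = X ξ ∧ Y ξ⁻¹ = Y ξ + σ (X ξ) * X ξ := by
    intro ξ hξ
    rcases cs ξ hξ with ⟨w, rfl⟩ | ⟨e', e, hc⟩
    · rw [h.tau_inv, (X0 _).1, mul_zero, add_zero]; exact ⟨rfl, rfl⟩
    · obtain ⟨e1, e2⟩ := XC _ _ _ (h.co_inv hc (hΦ _ _ _ hc))
      obtain ⟨e3, e4⟩ := XC _ _ _ hc
      rw [e1, e2, e3, e4, jadd, jΦ hc, add_mul]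
      exact ⟨rfl, rfl⟩
  have Xz : ∀ ξ ∈ Q, X ξ = 0 → ∃ z, ξ = τ z := fun ξ hξ e => (cs ξ hξ).resolve_right (by
    rintro ⟨e', f, hc⟩
    exact inv_ne_zero (c0 hc).2 ((XC _ _ _ hc).1.symm.trans e))
  have Pind : ∀ ξ ∈ Q, ∀ η ∈ Q, σ (X ξ) * X η + X ξ * σ (X η) ≠ 0 →
      X (ξ * η) = X ξ + X η ∧ Y (ξ * η) = Y ξ + Y η + σ (X ξ) * X η := by
    intro ξ hξ η hη hI
    obtain ⟨f', e, h1⟩ := (cs _ (inv_mem hξ)).resolve_left (by
      rintro ⟨z, hz⟩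
      exact hI (by rw [← (Pinv ξ hξ).1, hz, (X0 z).1]; simp))
    obtain ⟨g', e₁, h2⟩ := (cs _ hη).resolve_left (by
      rintro ⟨z, rfl⟩
      exact hI (by rw [(X0 z).1]; simp))
    have x1 : X ξ = (j e)⁻¹ := (Pinv ξ hξ).1.symm.trans (XC _ _ _ h1).1
    have x2 : X η = (j e₁)⁻¹ := (XC _ _ _ h2).1
    have n1 := (c0 h1).2
    have n2 := (c0 h2).2
    have n3 : σ (j e) ≠ 0 := by simpa using n1
    have n4 : σ (j e₁) ≠ 0 := by simpa using n2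
    have hd : dt e e₁ ≠ 0 := fun e0 => hI (by
      have := jdt e e₁
      rw [e0, map_zero] at this
      rw [x1, x2, map_inv₀, map_inv₀]
      field_simp
      linear_combination this)
    obtain ⟨e', d1, d2⟩ := exists_dual2 h.two0 hd
    have h3 := h.co_tau h1 (dt f' e')
    have h4 := h.co_tau h2 (dt g' e')
    rw [← eq_add_smul h.two0 h1.2.1 d1] at h3
    rw [← eq_add_smul h.two0 h2.2.1 d2] at h4
    obtain ⟨e₂, h5, h6⟩ := h.key hb hΦ h3 h4 fun e0 => hd (by rw [e0, dt_self h.two0])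
    have h7 := congrArg (fun e => σ (j e)) h6
    simp only [jadd, jΦ h5, jΦ h3, jΦ h4, map_add, σσ] at h7
    have e1 : (τ (dt f' e') * ξ⁻¹)⁻¹ * (τ (dt g' e') * η) = τ (dt f' e' + dt g' e') * (ξ * η) := by
      rw [mul_inv_rev, inv_inv, h.tau_inv, mul_assoc, ← mul_assoc (τ _), ← h.add, ← mul_assoc,
        h.central hξ, mul_assoc]
    obtain ⟨e2, e3⟩ := XC _ _ _ h5
    rw [e1] at e2 e3
    rw [(P0 _ _ (mul_mem hξ hη)).1, h7] at e2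
    rw [(P0 _ _ (mul_mem hξ hη)).2, h7, jadd, jΦ h3, map_add] at e3
    have e4 := (XC _ _ _ h3).2
    have e5 := (XC _ _ _ h4).2
    rw [(P0 _ _ (inv_mem hξ)).2, (Pinv ξ hξ).2, x1] at e4
    rw [(P0 _ _ hη).2] at e5
    rw [x1, x2]
    refine ⟨e2, ?_⟩
    linear_combination e3 - e4 - e5 + (σ (j e)⁻¹ * (j e)⁻¹) * two
  have h1 : ∀ ξ ∈ Q, Y ξ + σ (Y ξ) = σ (X ξ) * X ξ := by
    intro ξ hξ
    rcases cs ξ hξ with ⟨w, rfl⟩ | ⟨e', e, hc⟩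
    · rw [(X0 _).1, (X0 _).2, σι, mul_zero]; linear_combination ι w * two
    · obtain ⟨e3, e4⟩ := XC _ _ _ hc
      have n1 := (c0 hc).2
      have n3 : σ (j e) ≠ 0 := by simpa using n1
      have := jdt e' e
      rw [hc.2.1, map_one] at this
      rw [e3, e4, map_mul, map_inv₀]
      field_simp
      linear_combination this
  have h3 : ∀ ξ ∈ Q, ∀ η ∈ Q, X ξ = X η → Y ξ = Y η → ξ = η := by
    intro ξ hξ η hη e1 e2
    rcases cs ξ hξ with ⟨w, rfl⟩ | ⟨e', e, hc⟩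
    · obtain ⟨z, rfl⟩ := Xz η hη (e1 ▸ (X0 w).1)
      rw [(X0 _).2, (X0 _).2] at e2
      rw [ι.injective e2]
    rcases cs η hη with ⟨w, rfl⟩ | ⟨f', f, hc'⟩
    · obtain ⟨z, rfl⟩ := Xz ξ hξ (e1.trans (X0 w).1)
      exact absurd (h.tau_sq z) (h.co_sq hb hc)
    rw [(XC _ _ _ hc).1, (XC _ _ _ hc').1, inv_inj] at e1
    rw [(XC _ _ _ hc).2, (XC _ _ _ hc').2, e1, mul_left_inj' (inv_ne_zero (c0 hc').2)] at e2
    rw [jb.1 e1, jb.1 e2] at hc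
    exact h.co_left hc hc'
  have h4 : ∀ x y, y + σ y = σ x * x → ∃ ξ ∈ Q, X ξ = x ∧ Y ξ = y := by
    intro x y e
    by_cases hx : x = 0
    · rw [hx, mul_zero] at e
      obtain ⟨m, rfl⟩ := σfix y (by linear_combination e - y * two)
      exact ⟨τ m, h.tau_mem m, hx ▸ X0 m⟩
    obtain ⟨f, hf⟩ := jb.2 x⁻¹
    obtain ⟨f', hf'⟩ := jb.2 (y * x⁻¹)
    have hx' : σ x ≠ 0 := by simpa using hx
    obtain ⟨ξ, hc⟩ := h.co_exists hb (e' := f') (e := f) (ι.injective (by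
      rw [← jdt, hf, hf', map_one, map_mul, map_inv₀]
      field_simp
      linear_combination e))
    obtain ⟨e1, e2⟩ := XC _ _ _ hc
    exact ⟨ξ, hc.1, by rw [e1, hf, inv_inv], by rw [e2, hf, hf', inv_inv, inv_mul_cancel_right₀ hx]⟩
  refine h.iso_of_coords hE two X Y h1 (fun ξ hξ η hη => ?_) h3 h4 fun ξ hξ η hη e => ?_
  · change X (ξ * η) = X ξ + X η ∧ Y (ξ * η) = Y ξ + Y η + σ (X ξ) * X η
    have P1 : ∀ ξ ∈ Q, ∀ η ∈ Q, X η = 0 →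
        X (ξ * η) = X ξ + X η ∧ Y (ξ * η) = Y ξ + Y η + σ (X ξ) * X η := by
      intro ξ hξ η hη e
      obtain ⟨z, rfl⟩ := Xz η hη e
      rw [h.central hξ, (P0 z ξ hξ).1, (P0 z ξ hξ).2, e, (X0 z).2]
      exact ⟨by ring, by ring⟩
    by_cases e1 : X η = 0
    · exact P1 ξ hξ η hη e1
    by_cases e2 : X ξ = 0
    · obtain ⟨z, rfl⟩ := Xz ξ hξ e2
      rw [(P0 z η hη).1, (P0 z η hη).2, e2, (X0 z).2, map_zero]
      exact ⟨by ring, by ring⟩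
    by_cases hI : σ (X ξ) * X η + X ξ * σ (X η) = 0
    swap
    · exact Pind ξ hξ η hη hI
    have e2' : σ (X ξ) ≠ 0 := by simpa using e2
    by_cases e3 : X ξ = X η
    · obtain ⟨m, hm⟩ := σfix (Y ξ + Y η + σ (X ξ) * X ξ) (by
        have k := h1 η hη
        rw [← e3] at k
        rw [map_add, map_add, map_mul, σσ]
        linear_combination h1 ξ hξ + k + (σ (X ξ) * X ξ - Y ξ - Y η) * two)
      have e4 : η = τ m * ξ⁻¹ := h3 η hη _ (mul_mem (h.tau_mem m) (inv_mem hξ))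
        (by rw [(P0 _ _ (inv_mem hξ)).1, (Pinv ξ hξ).1, e3])
        (by rw [(P0 _ _ (inv_mem hξ)).2, (Pinv ξ hξ).2, hm]
            linear_combination -(Y ξ + σ (X ξ) * X ξ) * two)
      have e5 : ξ * η = τ m := by rw [e4, ← mul_assoc, h.central hξ, mul_inv_cancel_right]
      rw [e5, (X0 m).1, (X0 m).2, hm, ← e3]
      exact ⟨by linear_combination -X ξ * two, rfl⟩
    obtain ⟨ω, hω⟩ := PU.exists_omega (frobq_ne_id hE) σσ two
    obtain ⟨ζ, hζ, e4, -⟩ := h4 (ω / σ (X ξ)) (ω * (σ (ω / σ (X ξ)) * (ω / σ (X ξ)))) (by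
      rw [map_mul, map_mul, σσ]
      linear_combination (σ (ω / σ (X ξ)) * (ω / σ (X ξ))) * hω)
    have t1 : σ (X ξ) * X ζ + X ξ * σ (X ζ) = 1 := by
      rw [e4, map_div₀, σσ]; field_simp; exact hω
    have t2 : X ξ * (σ (X ζ) * X η + X ζ * σ (X η)) = X η := by
      linear_combination X η * t1 + X ζ * hI - (X η * X ζ * σ (X ξ)) * two
    obtain ⟨a1, a2⟩ := Pind ξ hξ ζ hζ (by rw [t1]; exact one_ne_zero)
    obtain ⟨a3, a4⟩ := Pinv ζ hζ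
    obtain ⟨a5, a6⟩ := Pind _ (inv_mem hζ) η hη (by
      rw [a3]; exact fun e => e1 (by rw [← t2, e, mul_zero]))
    obtain ⟨a7, a8⟩ := Pind _ (mul_mem hξ hζ) _ (mul_mem (inv_mem hζ) hη) (by
      rw [a1, a5, a3, map_add, map_add]
      intro e
      apply e3
      linear_combination X ξ * e - X ξ * t1 - t2 - X ξ * hI - (X ξ * X ζ * σ (X ζ) + X η) * two)
    have e5 : ξ * ζ * (ζ⁻¹ * η) = ξ * η := by group
    rw [e5, a1, a5, a3] at a7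
    rw [e5, a1, a2, a5, a6, a3, a4, map_add] at a8
    exact ⟨by linear_combination a7 + X ζ * two, by
      linear_combination a8 + (Y ζ + σ (X ξ) * X ζ + σ (X ζ) * X ζ + σ (X ζ) * X η) * two⟩
  · rcases cs ξ hξ with ⟨w, rfl⟩ | ⟨e', f, hc⟩
    · have hw : w ≠ 0 := by
        rintro rfl
        rw [h.tau_zero, one_smul, tt h.hS] at e
        exact smul_ne h.hS (Q_fix h.hS hη) (ta_ne h.hS) e.symm
      rw [h.ttta hw] at e
      rw [← Q_smul_inj h.hS (h.tau_mem _) hη (ta_ne h.hS) e, (X0 _).1, (X0 _).1, (X0 _).2, (X0 _).2,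
        ← map_mul, inv_mul_cancel₀ hw, map_one, zero_mul]
      exact ⟨rfl, rfl⟩
    · have hc' := (h.co_t hc hη).2 e
      obtain ⟨n1, n2⟩ := c0 hc
      rw [(XC _ _ _ hc).1, (XC _ _ _ hc).2, (XC _ _ _ hc').1, (XC _ _ _ hc').2]
      exact ⟨by field_simp, by field_simp⟩

end U1

namespace R1

variable {G Ω : Type*} [Group G] [MulAction G Ω] {a : Ω} {t : G} {Q : Subgroup G} {r : G}
  {F : Type} [Field F] {τ : F → G} {κ : Fˣ →* G} [Finite G] (h : R1 a t Q r τ κ)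
include h

theorem iso_PSU (h2 : IsPGroup 2 Q) (hna : ∃ x ∈ Q, ∃ y ∈ Q, x * y ≠ y * x) (hr : r = τ 1) :
    Nat.card Q = Nat.card F ^ 3 ∧
      ∃ (E : Type) (_ : Field E) (_ : Fintype E), Fintype.card E = Nat.card F ^ 2 ∧
        Nonempty (L0 t ≃* Cfsg.PSU 3 E (Nat.card F)) := by
  subst hr
  obtain ⟨h3, -, h4⟩ := h.higman h2 hna
  refine U1.iso ⟨h, h3, h4, ?_⟩
  by_contra hn
  push Not at hn
  obtain ⟨x, hx, y, hy, e⟩ := hna
  exact e (h.central' hx (h.mem_Q0'.2 ⟨hy, hn y hy⟩))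

end R1

end Cfsg.Agent.BS
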